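import Cfsg.Prelude.Def_Blocks
import Cfsg.Agent.Lib.Char.Complete
import Cfsg.Agent.Lib.Char.Integral
import Cfsg.Agent.Lib.Char.Linear
import Cfsg.Agent.Lib.Char.Induced

/-!
Degrees, kernels and inflation of irreducible characters in the vocabulary of the statements.
-/

set_option autoImplicit false

open scoped ComplexConjugate
open CfsgLib.Char

namespace CfsgLib.CharTools

universe u v

variable {G : Type u} [Group G] {χ : G → ℂ}

theorem degree_cast (h : Cfsg.IsCharacter G χ) : (Cfsg.charDegree χ : ℂ) = χ 1 :=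
  IsCharacter.degree_cast h

theorem irr_degree_cast (χ : Cfsg.IrrCharacter G) :
    (Cfsg.charDegree (χ : G → ℂ) : ℂ) = (χ : G → ℂ) 1 :=
  IsCharacter.degree_cast (IsIrrCharacter.isCharacter χ.2)

theorem irr_degree_pos (χ : Cfsg.IrrCharacter G) : 0 < Cfsg.charDegree (χ : G → ℂ) :=
  IsIrrCharacter.degree_pos χ.2

theorem irr_apply_one_ne_zero (χ : Cfsg.IrrCharacter G) : (χ : G → ℂ) 1 ≠ 0 :=
  IsIrrCharacter.apply_one_ne_zero χ.2

theorem degree_dvd_card [Finite G] (χ : Cfsg.IrrCharacter G) :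
    Cfsg.charDegree (χ : G → ℂ) ∣ Nat.card G := by
  obtain ⟨n, ρ, hρ, he⟩ := χ.2
  show degree (χ : G → ℂ) ∣ _
  rw [← he, degree_character]
  exact finrank_dvd_card ρ

theorem sum_degree_sq' [Finite G] :
    ∑ χ : Cfsg.IrrCharacter G, Cfsg.charDegree (χ : G → ℂ) ^ 2 = Nat.card G :=
  sum_degree_sq (G := G)

theorem conj_apply_one (h : Cfsg.IsCharacter G χ) : conj (χ 1) = χ 1 := by
  rw [← degree_cast h]; exact Complex.conj_natCast _

theorem charDegree_principal : Cfsg.charDegree (fun _ : G => (1 : ℂ)) = 1 := by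
  simp [Cfsg.charDegree]

/-- The kernel of a character as a normal subgroup. -/
theorem exists_kernel [Finite G] (h : Cfsg.IsCharacter G χ) :
    ∃ N : Subgroup G, N.Normal ∧ (∀ g, g ∈ N ↔ χ g = χ 1) ∧ ∀ g, ∀ n ∈ N, χ (g * n) = χ g := by
  obtain ⟨n, ρ, rfl⟩ := h
  refine ⟨MonoidHom.ker (ρ : G →* Module.End ℂ (Fin n → ℂ)), inferInstance, fun g => ?_,
    fun g x hx => ?_⟩
  · rw [MonoidHom.mem_ker, ← Module.End.one_eq_id.symm.trans rfl, Representation.char_one,
      character_eq_degree_iff]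
  · show LinearMap.trace ℂ _ (ρ (g * x)) = _
    rw [map_mul, show ρ x = 1 from hx, mul_one]
    rfl

theorem mul_ker [Finite G] (h : Cfsg.IsCharacter G χ) {n : G} (hn : χ n = χ 1) (g : G) :
    χ (g * n) = χ g := by
  obtain ⟨N, -, hN, hmul⟩ := exists_kernel h
  exact hmul g n ((hN n).mpr hn)

theorem classInner_comp_surjective {K : Type v} [Group K] [Fintype G] [Fintype K] (π : G →* K)
    (hπ : Function.Surjective π) (a b : K → ℂ) :
    Cfsg.classInner (fun g => a (π g)) (fun g => b (π g)) = Cfsg.classInner a b := by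
  classical
  have hfib : ∀ k : K, (Finset.univ.filter fun g => π g = k).card = Nat.card π.ker := by
    intro k
    obtain ⟨g₀, rfl⟩ := hπ k
    rw [← Fintype.card_subtype, ← Nat.card_eq_fintype_card]
    refine Nat.card_congr
      { toFun := fun g => ⟨g₀⁻¹ * g.1, by simp [MonoidHom.mem_ker, g.2]⟩
        invFun := fun x => ⟨g₀ * x.1, by simp [MonoidHom.mem_ker.mp x.2]⟩
        left_inv := fun g => Subtype.ext (mul_inv_cancel_left _ _)
        right_inv := fun x => Subtype.ext (inv_mul_cancel_left _ _) }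
  have hcard : Nat.card G = Nat.card π.ker * Nat.card K := by
    rw [← π.ker.card_mul_index, Subgroup.index_ker, MonoidHom.range_eq_top.mpr hπ,
      Subgroup.card_top]
  have hker : (Nat.card π.ker : ℂ) ≠ 0 := Nat.cast_ne_zero.mpr Nat.card_pos.ne'
  simp only [Cfsg.classInner]
  rw [← Finset.sum_fiberwise Finset.univ π, hcard]
  push_cast
  rw [Finset.mul_sum, Finset.mul_sum]
  refine Finset.sum_congr rfl fun k _ => ?_
  rw [Finset.sum_congr rfl (fun g hg => by rw [(Finset.mem_filter.mp hg).2]), Finset.sum_const,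
    hfib, nsmul_eq_mul]
  field_simp

/-- Inflation of irreducible characters along a surjection. -/
theorem isIrrCharacter_comp {K : Type v} [Group K] [Finite G] (π : G →* K)
    (hπ : Function.Surjective π) {ψ : K → ℂ} (hψ : Cfsg.IsIrrCharacter K ψ) :
    Cfsg.IsIrrCharacter G (fun g => ψ (π g)) := by
  have : Finite K := Finite.of_surjective π hπ
  cases nonempty_fintype G
  cases nonempty_fintype K
  refine IsCharacter.isIrrCharacter_of_classInner_self
    (IsCharacter.comp (IsIrrCharacter.isCharacter hψ) π) ?_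
  rw [classInner_comp_surjective π hπ]
  exact classInner_irr_self hψ

/-- An irreducible character trivial on a normal subgroup is inflated from the quotient. -/
theorem exists_descend [Finite G] (N : Subgroup G) [N.Normal] (h : Cfsg.IsIrrCharacter G χ)
    (hN : ∀ n ∈ N, χ n = χ 1) :
    ∃ ψ : Cfsg.IrrCharacter (G ⧸ N), ∀ g : G, (ψ : G ⧸ N → ℂ) (g : G ⧸ N) = χ g := by
  cases nonempty_fintype G
  have := Fintype.ofFinite (G ⧸ N)
  obtain ⟨n, ρ, hρ, rfl⟩ := h
  have hker : N ≤ MonoidHom.ker (ρ : G →* Module.End ℂ (Fin n → ℂ)) := fun x hx => by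
    have := hN x hx
    rw [Representation.char_one, character_eq_degree_iff] at this
    exact this
  let σ : Representation ℂ (G ⧸ N) (Fin n → ℂ) := QuotientGroup.lift N ρ hker
  have hσ : ∀ g : G, σ.character (g : G ⧸ N) = ρ.character g := fun g => rfl
  refine ⟨⟨σ.character, IsCharacter.isIrrCharacter_of_classInner_self ⟨n, σ, rfl⟩ ?_⟩, hσ⟩
  rw [← classInner_comp_surjective (QuotientGroup.mk' N) (QuotientGroup.mk'_surjective N)]
  exact classInner_irr_self (isIrrCharacter_character ρ)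

/-- Irreducible characters of `G ⧸ N` are the irreducible characters of `G` trivial on `N`. -/
noncomputable def quotientEquiv [Finite G] (N : Subgroup G) [N.Normal] :
    Cfsg.IrrCharacter (G ⧸ N) ≃
      {χ : Cfsg.IrrCharacter G // ∀ n ∈ N, (χ : G → ℂ) n = (χ : G → ℂ) 1} :=
  Equiv.ofBijective
    (fun ψ => ⟨⟨fun g => (ψ : G ⧸ N → ℂ) (g : G ⧸ N),
      isIrrCharacter_comp (QuotientGroup.mk' N) (QuotientGroup.mk'_surjective N) ψ.2⟩,
      fun n hn => by simp [(QuotientGroup.eq_one_iff n).mpr hn]⟩)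
    ⟨fun a b e => Subtype.ext (funext fun x => by
      obtain ⟨g, rfl⟩ := QuotientGroup.mk_surjective x
      exact congrFun (congrArg (fun t => (t.1.1 : G → ℂ)) e) g),
    fun x => by
      obtain ⟨ψ, hψ⟩ := exists_descend N x.1.2 x.2
      exact ⟨ψ, Subtype.ext (Subtype.ext (funext hψ))⟩⟩

@[simp]
theorem quotientEquiv_apply [Finite G] (N : Subgroup G) [N.Normal] (ψ : Cfsg.IrrCharacter (G ⧸ N))
    (g : G) : ((quotientEquiv N ψ).1 : G → ℂ) g = (ψ : G ⧸ N → ℂ) (g : G ⧸ N) := rfl

theorem charDegree_quotientEquiv [Finite G] (N : Subgroup G) [N.Normal]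
    (ψ : Cfsg.IrrCharacter (G ⧸ N)) :
    Cfsg.charDegree ((quotientEquiv N ψ).1 : G → ℂ) = Cfsg.charDegree (ψ : G ⧸ N → ℂ) := rfl

/-- Column orthogonality in a quotient, written inside the group. -/
theorem sum_quotient_mul_conj [Finite G] (N : Subgroup G) [N.Normal] (g h : G)
    [Fintype {χ : Cfsg.IrrCharacter G // ∀ n ∈ N, (χ : G → ℂ) n = (χ : G → ℂ) 1}]
    [Decidable (IsConj (g : G ⧸ N) (h : G ⧸ N))] :
    ∑ χ : {χ : Cfsg.IrrCharacter G // ∀ n ∈ N, (χ : G → ℂ) n = (χ : G → ℂ) 1},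
        (χ.1 : G → ℂ) g * conj ((χ.1 : G → ℂ) h) =
      if IsConj (g : G ⧸ N) (h : G ⧸ N) then
        (Nat.card (Subgroup.centralizer ({(g : G ⧸ N)} : Set (G ⧸ N))) : ℂ) else 0 := by
  rw [← sum_mul_conj (g : G ⧸ N) (h : G ⧸ N)]
  exact (Fintype.sum_equiv (quotientEquiv N) _ _ fun ψ => rfl).symm

/-- A group of order divisible by a prime has a nonprincipal irreducible character of degree prime
to it. -/
theorem exists_not_dvd [Finite G] {p : ℕ} (hp : p.Prime) (hdvd : p ∣ Nat.card G) :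
    ∃ χ : Cfsg.IrrCharacter G, (χ : G → ℂ) ≠ (fun _ => 1) ∧ ¬ p ∣ Cfsg.charDegree (χ : G → ℂ) := by
  classical
  by_contra hcon
  push Not at hcon
  rw [← sum_degree_sq', ← Finset.add_sum_erase _ _ (Finset.mem_univ (principalIrr (G := G))),
    show Cfsg.charDegree ((principalIrr (G := G)) : G → ℂ) = 1 from charDegree_principal] at hdvd
  have h2 : p ∣ ∑ χ ∈ (Finset.univ : Finset (Cfsg.IrrCharacter G)).erase principalIrr,
      Cfsg.charDegree (χ : G → ℂ) ^ 2 := Finset.dvd_sum fun χ hχ =>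
    dvd_pow (hcon χ fun e => (Finset.mem_erase.mp hχ).1 (Subtype.ext e)) two_ne_zero
  exact hp.one_lt.ne' (Nat.dvd_one.mp ((Nat.dvd_add_left h2).mp (by simpa using hdvd)))

/-- A character of positive degree has an irreducible constituent with the same property of being
different from zero in the inner product. -/
theorem exists_constituent [Fintype G] (h : Cfsg.IsCharacter G χ) (h1 : χ ≠ 0) :
    ∃ ψ : Cfsg.IrrCharacter G, Cfsg.classInner χ (ψ : G → ℂ) ≠ 0 := by
  by_contra hcon
  push Not at hcon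
  exact h1 (eq_zero_of_forall_classInner_eq_zero (IsCharacter.isClassFunction h)
    fun ψ hψ => hcon ⟨ψ, hψ⟩)

/-- The degree of a character is the sum of the degrees of its constituents with multiplicity. -/
theorem exists_degree_combination [Fintype G] (h : Cfsg.IsCharacter G χ) :
    ∃ m : Cfsg.IrrCharacter G → ℕ, (∀ ψ : Cfsg.IrrCharacter G, Cfsg.classInner χ (ψ : G → ℂ) = m ψ) ∧
      Cfsg.charDegree χ = ∑ ψ, m ψ * Cfsg.charDegree (ψ : G → ℂ) := by
  choose m hm using fun ψ : Cfsg.IrrCharacter G => IsCharacter.exists_nat_classInner h ψ.2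
  refine ⟨m, hm, ?_⟩
  have h1 := congrFun (IsCharacter.eq_sum_classInner h) 1
  simp only [Finset.sum_apply, Pi.smul_apply, smul_eq_mul, hm] at h1
  rw [← degree_cast h] at h1
  simp only [← irr_degree_cast] at h1
  exact_mod_cast h1

theorem classInner_self_pos [Fintype G] {f : G → ℂ} :
    Cfsg.classInner f f = ((Nat.card G : ℝ)⁻¹ * ∑ g, ‖f g‖ ^ 2 : ℝ) := by
  simp only [Cfsg.classInner, Complex.mul_conj']
  push_cast
  rfl

/-- The codegree of an irreducible character, with the kernel counted as a set, divides the order. -/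
theorem codegree_eq [Finite G] (χ : Cfsg.IrrCharacter G) (N : Subgroup G) [N.Normal]
    (hmem : ∀ g, g ∈ N ↔ (χ : G → ℂ) g = (χ : G → ℂ) 1) :
    Cfsg.charDegree (χ : G → ℂ) ∣ N.index ∧
      Nat.card G / (Nat.card {g : G // (χ : G → ℂ) g = (χ : G → ℂ) 1} * Cfsg.charDegree (χ : G → ℂ)) =
        N.index / Cfsg.charDegree (χ : G → ℂ) := by
  obtain ⟨φ, hφ⟩ := exists_descend N χ.2 fun n hn => (hmem n).mp hn
  have hdeg : Cfsg.charDegree (φ : G ⧸ N → ℂ) = Cfsg.charDegree (χ : G → ℂ) := by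
    unfold Cfsg.charDegree
    rw [← hφ 1]
    rfl
  refine ⟨hdeg ▸ degree_dvd_card φ, ?_⟩
  rw [Nat.card_congr (Equiv.subtypeEquivRight fun g => (hmem g).symm : {g : G // (χ : G → ℂ) g = (χ : G → ℂ) 1} ≃ N),
    ← Nat.div_div_eq_div_mul, ← N.index_mul_card, Nat.mul_div_cancel _ Nat.card_pos]

theorem codegree_dvd_card [Finite G] (χ : Cfsg.IrrCharacter G) :
    Nat.card G / (Nat.card {g : G // (χ : G → ℂ) g = (χ : G → ℂ) 1} * Cfsg.charDegree (χ : G → ℂ)) ∣
      Nat.card G := by
  obtain ⟨N, hN, hmem, -⟩ := exists_kernel (IsIrrCharacter.isCharacter χ.2)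
  obtain ⟨h1, h2⟩ := codegree_eq χ N hmem
  rw [h2]
  exact (Nat.div_dvd_of_dvd h1).trans N.index_dvd_card

/-- A character with an irreducible constituent of at least its degree equals that constituent. -/
theorem eq_of_constituent_of_degree_le [Fintype G] {f : G → ℂ} (hf : Cfsg.IsCharacter G f)
    (χ : Cfsg.IrrCharacter G) (h0 : Cfsg.classInner f (χ : G → ℂ) ≠ 0)
    (hle : Cfsg.charDegree f ≤ Cfsg.charDegree (χ : G → ℂ)) : f = (χ : G → ℂ) := by
  classical
  obtain ⟨m, hm, hdeg⟩ := exists_degree_combination hf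
  have hmχ : 1 ≤ m χ := Nat.one_le_iff_ne_zero.mpr fun h => h0 (by rw [hm, h, Nat.cast_zero])
  have hpos := irr_degree_pos χ
  rw [← Finset.add_sum_erase _ _ (Finset.mem_univ χ)] at hdeg
  have h1 : m χ = 1 := by
    refine le_antisymm ?_ hmχ
    by_contra h
    push Not at h
    have := Nat.mul_le_mul_right (Cfsg.charDegree (χ : G → ℂ)) h
    omega
  rw [h1, one_mul] at hdeg
  have h2 := Finset.sum_eq_zero_iff.mp (Nat.le_zero.mp (by omega :
    ∑ ψ ∈ Finset.univ.erase χ, m ψ * Cfsg.charDegree (ψ : G → ℂ) ≤ 0))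
  conv_lhs => rw [IsCharacter.eq_sum_classInner hf]
  rw [Finset.sum_eq_single χ]
  · simp [hm, h1]
  · intro ψ _ hψ
    have h3 := h2 ψ (Finset.mem_erase.mpr ⟨hψ, Finset.mem_univ _⟩)
    have h4 : m ψ = 0 := (mul_eq_zero.mp h3).resolve_right (irr_degree_pos ψ).ne'
    simp [hm, h4]
  · simp

/-- An irreducible character takes values of full modulus on the centre. -/
theorem norm_apply_center [Finite G] (χ : Cfsg.IrrCharacter G) {z : G} (hz : z ∈ Subgroup.center G) :
    ‖(χ : G → ℂ) z‖ = Cfsg.charDegree (χ : G → ℂ) := by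
  obtain ⟨n, ρ, hρ, he⟩ := χ.2
  obtain ⟨c, hc⟩ := exists_scalar_of_commute ρ (ρ z) fun g => by
    rw [← map_mul, ← map_mul, Subgroup.mem_center_iff.mp hz g]
  have hn : 0 < n := by simpa using finrank_pos_of_irreducible ρ
  have hc1 : c ^ orderOf z = 1 := by
    have h1 : (c • (1 : (Fin n → ℂ) →ₗ[ℂ] Fin n → ℂ)) ^ orderOf z = 1 := by
      rw [← hc, ← map_pow, pow_orderOf_eq_one, map_one]
    rw [smul_pow, one_pow] at h1
    have h2 := congrFun (LinearMap.congr_fun h1 (fun _ => 1)) ⟨0, hn⟩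
    simpa using h2
  have hdeg : Cfsg.charDegree (χ : G → ℂ) = n := by
    show degree (χ : G → ℂ) = n
    rw [← he, degree_character]; simp
  rw [hdeg, ← he]
  show ‖LinearMap.trace ℂ _ (ρ z)‖ = n
  rw [hc, map_smul, LinearMap.trace_one]
  simp [Complex.norm_eq_one_of_pow_eq_one hc1 (orderOf_pos z).ne']

/-- The square of a degree times the order of the centre is at most the group order. -/
theorem degree_sq_mul_le [Finite G] (χ : Cfsg.IrrCharacter G) (Z : Subgroup G)
    (hZ : Z ≤ Subgroup.center G) :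
    Cfsg.charDegree (χ : G → ℂ) ^ 2 * Nat.card Z ≤ Nat.card G := by
  classical
  cases nonempty_fintype G
  have h1 := classInner_irr_self χ.2
  rw [classInner_self_pos] at h1
  have h2 : ((Nat.card G : ℝ))⁻¹ * ∑ g, ‖(χ : G → ℂ) g‖ ^ 2 = 1 := by exact_mod_cast h1
  rw [inv_mul_eq_one₀ (Nat.cast_ne_zero.mpr Nat.card_pos.ne')] at h2
  have h3 : ∑ g ∈ Finset.univ.filter (· ∈ Z), ‖(χ : G → ℂ) g‖ ^ 2 ≤ (Nat.card G : ℝ) :=
    h2 ▸ Finset.sum_le_sum_of_subset_of_nonneg (Finset.filter_subset _ _) fun _ _ _ => sq_nonneg _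
  rw [Finset.sum_congr rfl (fun g hg => by rw [norm_apply_center χ (hZ (Finset.mem_filter.mp hg).2)]),
    Finset.sum_const, nsmul_eq_mul, ← Fintype.card_subtype, ← Nat.card_eq_fintype_card,
    show Nat.card {g // g ∈ Z} = Nat.card Z from rfl, mul_comm] at h3
  exact_mod_cast h3

end CfsgLib.CharTools
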