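import Cfsg.Agent.Lib.CharTools.Basic
import Cfsg.Agent.Lib.RealChar.Indicator

/-!
The Frobenius-Schur indicator of an irreducible character is `0`, `1` or `-1`; kernels of
constituents.
-/

set_option autoImplicit false

open Module Matrix
open scoped ComplexConjugate

namespace CfsgLib.CharTools

universe u

variable {G : Type u} [Group G] [Fintype G]

theorem fsInd_trichotomy {χ : G → ℂ} (hχ : Cfsg.IsIrrCharacter G χ) :
    RealChar.fsInd χ = 0 ∨ RealChar.fsInd χ = 1 ∨ RealChar.fsInd χ = -1 := by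
  classical
  obtain ⟨n, ρ, hρ, rfl⟩ := hχ
  let b := Pi.basisFun ℂ (Fin n)
  let A : G → Matrix (Fin n) (Fin n) ℂ := fun x => LinearMap.toMatrix b b (ρ x)
  have hA : ∀ x y, A (x * y) = A x * A y := fun x y => by
    simp only [A, map_mul, LinearMap.toMatrix_mul]
  have hA1 : A 1 = 1 := by simp only [A, map_one, LinearMap.toMatrix_one]
  have htr : ∀ x, ρ.character x = (A x).trace := fun x => LinearMap.trace_eq_matrix_trace ℂ b _
  let P : Matrix (Fin n) (Fin n) ℂ →ₗ[ℂ] Matrix (Fin n) (Fin n) ℂ :=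
    { toFun := fun E => ∑ x, A x * E * (A x)ᵀ
      map_add' := fun E E' => by simp only [Matrix.mul_add, Matrix.add_mul, Finset.sum_add_distrib]
      map_smul' := fun c E => by simp [Finset.smul_sum] }
  have hν : ∑ x, ρ.character (x * x) = ∑ i, ∑ j, P (Matrix.single j i 1) i j := by
    have h : ∀ i j, P (Matrix.single j i 1) i j = ∑ x, A x i j * A x j i := fun i j => by
      simp [P, Matrix.sum_apply, Matrix.mul_apply, Matrix.single_apply, Matrix.transpose_apply,
        ite_and]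
    simp only [h]
    calc ∑ x, ρ.character (x * x) = ∑ x, ∑ i, ∑ j, A x i j * A x j i :=
          Finset.sum_congr rfl fun x _ => by
            rw [htr, hA]; simp only [Matrix.trace, Matrix.diag, Matrix.mul_apply]
      _ = _ := by
          rw [Finset.sum_comm]
          exact Finset.sum_congr rfl fun i _ => Finset.sum_comm
  have hinv : ∀ E y, A y * P E * (A y)ᵀ = P E := by
    intro E y
    show A y * (∑ x, A x * E * (A x)ᵀ) * (A y)ᵀ = ∑ x, A x * E * (A x)ᵀ
    rw [Finset.mul_sum, Finset.sum_mul]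
    refine Fintype.sum_equiv (Equiv.mulLeft y) _ _ fun x => ?_
    simp only [Equiv.coe_mulLeft, hA, Matrix.transpose_mul, Matrix.mul_assoc]
  by_cases hP : ∀ E, P E = 0
  · left
    simp [RealChar.fsInd, hν, hP]
  push Not at hP
  obtain ⟨E₀, hE₀⟩ := hP
  set F := P E₀ with hF
  have hcomm : ∀ E y, A y * P E = P E * (A y⁻¹)ᵀ := fun E y => by
    conv_rhs => rw [← hinv E y]
    rw [Matrix.mul_assoc _ (A y)ᵀ, ← Matrix.transpose_mul, ← hA, inv_mul_cancel, hA1,
      Matrix.transpose_one, Matrix.mul_one]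
  have hρA : ∀ y, Matrix.toLin b b (A y) = ρ y := fun y => Matrix.toLin_toMatrix _ _ _
  have hscal : ∀ M : Matrix (Fin n) (Fin n) ℂ, (∀ y, A y * M = M * A y) → ∃ c : ℂ, M = c • 1 := by
    intro M hM
    obtain ⟨c, hc⟩ := CfsgLib.Char.exists_scalar_of_commute ρ (Matrix.toLin b b M) fun y => by
      rw [← hρA, Module.End.mul_eq_comp, Module.End.mul_eq_comp, ← Matrix.toLin_mul, ← Matrix.toLin_mul,
        hM]
    refine ⟨c, (Matrix.toLin b b).injective ?_⟩
    rw [hc, map_smul, Matrix.toLin_one]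
    rfl
  have hunit : IsUnit F := by
    have hrange : ∀ y : G, ∀ v ∈ LinearMap.range (Matrix.toLin b b F),
        ρ y v ∈ LinearMap.range (Matrix.toLin b b F) := by
      rintro y _ ⟨w, rfl⟩
      refine ⟨Matrix.toLin b b (A y⁻¹)ᵀ w, ?_⟩
      rw [← hρA y]
      simp only [← LinearMap.comp_apply, ← Matrix.toLin_mul, hF, hcomm]
    rcases CfsgLib.CharKernel.eq_bot_or_eq_top ρ _ hrange with h | h
    · exact absurd ((Matrix.toLin b b).map_eq_zero_iff.mp (LinearMap.range_eq_bot.mp h)) hE₀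
    · have hu : IsUnit (Matrix.toLin b b F) := (Module.End.isUnit_iff _).mpr
        ⟨LinearMap.injective_iff_surjective.mpr (LinearMap.range_eq_top.mp h),
          LinearMap.range_eq_top.mp h⟩
      have h2 : LinearMap.toMatrixAlgEquiv b (Matrix.toLin b b F) = F := LinearMap.toMatrix_toLin b b F
      rw [← h2]
      exact hu.map _
  obtain ⟨u, hu⟩ := hunit
  -- every value of `P` is a multiple of `F`
  have hmul : ∀ E, ∃ c : ℂ, P E = c • F := by
    intro E
    obtain ⟨c, hc⟩ := hscal (P E * (↑u⁻¹ : Matrix _ _ ℂ)) fun y => by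
      have h1 : (A y⁻¹)ᵀ * (↑u⁻¹ : Matrix _ _ ℂ) = (↑u⁻¹ : Matrix _ _ ℂ) * A y := by
        have h2 := hcomm E₀ y
        rw [← hF, ← hu] at h2
        calc (A y⁻¹)ᵀ * (↑u⁻¹ : Matrix _ _ ℂ)
            = (↑u⁻¹ : Matrix _ _ ℂ) * ((↑u : Matrix _ _ ℂ) * (A y⁻¹)ᵀ) * (↑u⁻¹ : Matrix _ _ ℂ) := by
              rw [← Matrix.mul_assoc, Units.inv_mul, Matrix.one_mul]
          _ = _ := by rw [← h2, Matrix.mul_assoc, Matrix.mul_assoc, Units.mul_inv, Matrix.mul_one]
      rw [← Matrix.mul_assoc, hcomm E y, Matrix.mul_assoc, h1, ← Matrix.mul_assoc]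
    refine ⟨c, ?_⟩
    calc P E = P E * (↑u⁻¹ : Matrix _ _ ℂ) * F := by
          rw [← hu, Matrix.mul_assoc, Units.inv_mul, Matrix.mul_one]
      _ = c • F := by rw [hc, Matrix.smul_mul, Matrix.one_mul]
  have hPT : ∀ E, P Eᵀ = (P E)ᵀ := fun E => by
    simp [P, Matrix.transpose_sum, Matrix.transpose_mul, Matrix.mul_assoc]
  obtain ⟨ε, hε⟩ : ∃ ε : ℂ, Fᵀ = ε • F := by
    obtain ⟨ε, hε⟩ := hmul E₀ᵀ
    exact ⟨ε, by rw [hF, ← hPT]; exact hε⟩
  have hε1 : ε * ε = 1 := by
    have h := congrArg Matrix.transpose hε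
    rw [Matrix.transpose_transpose, Matrix.transpose_smul, hε, smul_smul] at h
    have h' : (1 : ℂ) • F = (ε * ε) • F := by rw [one_smul]; exact h
    exact (smul_left_injective ℂ hE₀ h').symm
  have hPF : P F = (Nat.card G : ℂ) • F := by
    show ∑ x, A x * F * (A x)ᵀ = _
    rw [Finset.sum_congr rfl fun x _ => hinv E₀ x, Finset.sum_const, Finset.card_univ,
      Nat.card_eq_fintype_card, Nat.cast_smul_eq_nsmul]
  choose c hc using fun i j => hmul (Matrix.single j i 1)
  have hdecomp : Fᵀ = ∑ i, ∑ j, F i j • Matrix.single j i (1 : ℂ) := by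
    ext a b'
    simp [Matrix.sum_apply, Matrix.single_apply, ite_and, Matrix.transpose_apply]
  have hkey : (∑ i, ∑ j, c i j * F i j) • F = (ε * (Nat.card G : ℂ)) • F := by
    have h1 : P Fᵀ = (ε * (Nat.card G : ℂ)) • F := by rw [hε, map_smul, hPF, smul_smul]
    have h2 : P Fᵀ = ∑ i, ∑ j, (c i j * F i j) • F := by
      rw [hdecomp, map_sum]
      refine Finset.sum_congr rfl fun i _ => ?_
      rw [map_sum]
      refine Finset.sum_congr rfl fun j _ => ?_
      rw [map_smul, hc, smul_smul, mul_comm]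
    rw [← h1, h2, Finset.sum_smul]
    exact Finset.sum_congr rfl fun i _ => Finset.sum_smul
  have hsum : ∑ x, ρ.character (x * x) = ε * (Nat.card G : ℂ) := by
    rw [hν, ← smul_left_injective ℂ hE₀ hkey]
    exact Finset.sum_congr rfl fun i _ => Finset.sum_congr rfl fun j _ => by
      rw [hc, Matrix.smul_apply, smul_eq_mul]
  right
  rw [RealChar.fsInd, hsum, mul_left_comm, inv_mul_cancel₀ (Nat.cast_ne_zero.mpr Nat.card_pos.ne'),
    mul_one]
  exact mul_self_eq_one_iff.mp hε1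

/-- An element in the kernel of a character lies in the kernel of each constituent. -/
theorem eq_apply_one_of_constituent {f : G → ℂ} (hf : Cfsg.IsCharacter G f) {k : G} (hk : f k = f 1)
    (ψ : Cfsg.IrrCharacter G) (hψ : Cfsg.classInner f (ψ : G → ℂ) ≠ 0) :
    (ψ : G → ℂ) k = (ψ : G → ℂ) 1 := by
  obtain ⟨m, hm, hdeg⟩ := exists_degree_combination hf
  have h1 := congrFun (CfsgLib.Char.IsCharacter.eq_sum_classInner hf) k
  rw [hk, ← degree_cast hf, hdeg] at h1
  simp only [Finset.sum_apply, Pi.smul_apply, smul_eq_mul, hm] at h1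
  have h2 := congrArg Complex.re h1
  simp only [Complex.re_sum, Complex.natCast_re, Complex.mul_re, Complex.natCast_im, zero_mul,
    sub_zero] at h2
  push_cast at h2
  have hle : ∀ φ : Cfsg.IrrCharacter G, (m φ : ℝ) * ((φ : G → ℂ) k).re ≤ m φ * Cfsg.charDegree (φ : G → ℂ) :=
    fun φ => mul_le_mul_of_nonneg_left ((Complex.re_le_norm _).trans
      (CfsgLib.Char.IsCharacter.norm_apply_le (CfsgLib.Char.IsIrrCharacter.isCharacter φ.2) k))
      (Nat.cast_nonneg _)
  have h3 := (Finset.sum_eq_sum_iff_of_le fun φ _ => hle φ).mp h2.symm ψ (Finset.mem_univ _)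
  have hm0 : (m ψ : ℝ) ≠ 0 := Nat.cast_ne_zero.mpr fun h => hψ (by rw [hm, h, Nat.cast_zero])
  have hre := mul_left_cancel₀ hm0 h3
  have hnorm := CfsgLib.Char.IsCharacter.norm_apply_le (CfsgLib.Char.IsIrrCharacter.isCharacter ψ.2) k
  have him : ((ψ : G → ℂ) k).im = 0 := by
    have h4 := Complex.sq_norm ((ψ : G → ℂ) k)
    rw [Complex.normSq_apply, hre] at h4
    have h5 : ‖(ψ : G → ℂ) k‖ ≤ (Cfsg.charDegree (ψ : G → ℂ) : ℝ) := hnorm
    have h6 := pow_le_pow_left₀ (norm_nonneg _) h5 2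
    rw [h4] at h6
    exact mul_self_eq_zero.mp (le_antisymm (by linarith [h6]) (mul_self_nonneg _))
  rw [← irr_degree_cast]
  exact Complex.ext (by simpa using hre) (by simpa using him)

end CfsgLib.CharTools
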