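import Cfsg.Agent.Lib.CharTools.Basic
import Mathlib.GroupTheory.SchurZassenhaus

/-!
A faithful irreducible character of prime codegree forces a self-centralising normal subgroup of
prime order.
-/

set_option autoImplicit false

open CfsgLib.Char

namespace CfsgLib.CharTools

universe u

theorem exists_normal_prime_of_prime_codegree {G : Type u} [Group G] [Finite G]
    (χ : Cfsg.IrrCharacter G) (hfaith : ∀ g : G, (χ : G → ℂ) g = (χ : G → ℂ) 1 → g = 1)
    {p : ℕ} (hp : p.Prime) (hcod : Nat.card G = p * Cfsg.charDegree (χ : G → ℂ)) :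
    ∃ P : Subgroup G, P.Normal ∧ Nat.card P = p ∧ Subgroup.centralizer (P : Set G) = P := by
  classical
  have := Fact.mk hp
  cases nonempty_fintype G
  set d := Cfsg.charDegree (χ : G → ℂ) with hd
  have hd0 : 0 < d := irr_degree_pos χ
  -- the degree is smaller than `p`
  have hdp : d < p := by
    have hne : χ ≠ principalIrr := fun h => by
      have hall : ∀ g : G, g = 1 := fun g => hfaith g (by rw [h]; rfl)
      have : Subsingleton G := ⟨fun a b => (hall a).trans (hall b).symm⟩
      rw [Nat.card_of_subsingleton (1 : G)] at hcod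
      exact hp.one_lt.ne' (Nat.dvd_one.mp (Dvd.intro _ hcod.symm))
    have h1 : d ^ 2 + 1 ≤ Nat.card G := by
      rw [← sum_degree_sq']
      refine le_trans (le_of_eq ?_) (Finset.sum_le_sum_of_subset (Finset.subset_univ {χ, principalIrr}))
      rw [Finset.sum_pair hne, show Cfsg.charDegree ((principalIrr (G := G)) : G → ℂ) = 1 from charDegree_principal,
        one_pow]
    rw [hcod] at h1
    by_contra hcon
    push Not at hcon
    nlinarith [Nat.mul_le_mul_right d hcon]
  have hpd : ¬ p ∣ d := fun h => absurd (Nat.le_of_dvd hd0 h) (by omega)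
  obtain ⟨S⟩ := (inferInstance : Nonempty (Sylow p G))
  have hS : Nat.card S = p := by
    rw [S.card_eq_multiplicity, hcod, Nat.factorization_mul hp.ne_zero hd0.ne', Finsupp.add_apply,
      hp.factorization_self, Nat.factorization_eq_zero_of_not_dvd hpd, add_zero, pow_one]
  have hidx : (S : Subgroup G).index = d := by
    have := (S : Subgroup G).card_mul_index
    rw [hS, hcod] at this
    exact Nat.eq_of_mul_eq_mul_left hp.pos this
  have hn1 : Nat.card (Sylow p G) = 1 := by
    have h1 := card_sylow_modEq_one p G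
    have h2 : Nat.card (Sylow p G) ≤ d := hidx ▸ Nat.le_of_dvd (hidx ▸ hd0) S.card_dvd_index
    unfold Nat.ModEq at h1
    rwa [Nat.mod_eq_of_lt (by omega), Nat.mod_eq_of_lt hp.one_lt] at h1
  have : Subsingleton (Sylow p G) := (Nat.card_eq_one_iff_unique.mp hn1).1
  have hnormal : (S : Subgroup G).Normal := S.normal_of_subsingleton
  refine ⟨S, hnormal, hS, ?_⟩
  set C := Subgroup.centralizer ((S : Subgroup G) : Set G) with hC
  have hSC : (S : Subgroup G) ≤ C := by
    have : IsCyclic (S : Subgroup G) := isCyclic_of_prime_card hS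
    intro x hx y hy
    exact congrArg Subtype.val ((IsCyclic.commGroup (α := (S : Subgroup G))).mul_comm ⟨y, hy⟩ ⟨x, hx⟩)
  have := Fintype.ofFinite C
  obtain ⟨D, hCD⟩ : ∃ D, Nat.card C = p * D := hS ▸ Subgroup.card_dvd_of_le hSC
  have hdD : d = C.index * D := by
    have := C.card_mul_index
    rw [hCD, hcod, mul_assoc] at this
    rw [← Nat.eq_of_mul_eq_mul_left hp.pos this, mul_comm]
  -- constituents of the restriction have small degree
  have hres := IsCharacter.restrict (IsIrrCharacter.isCharacter χ.2) C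
  obtain ⟨m, hm, hdeg⟩ := exists_degree_combination hres
  have hdeg' : d = ∑ φ, m φ * Cfsg.charDegree (φ : C → ℂ) := by
    rw [← hdeg]; rfl
  have hSz : (S : Subgroup G).subgroupOf C ≤ Subgroup.center C := fun z hz =>
    Subgroup.mem_center_iff.mpr fun c => Subtype.ext
      (Subgroup.mem_centralizer_iff.mp c.2 (z : G) hz).symm
  have hf : ∀ φ : Cfsg.IrrCharacter C, Cfsg.charDegree (φ : C → ℂ) ^ 2 ≤ D := by
    intro φ
    have h1 := degree_sq_mul_le φ _ hSz
    rw [Nat.card_congr (Subgroup.subgroupOfEquivOfLe hSC).toEquiv, hS, hCD, mul_comm p D] at h1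
    exact Nat.le_of_mul_le_mul_right h1 hp.pos
  have hnorm : ∑ φ, m φ ^ 2 ≤ C.index := by
    have h1 : Cfsg.classInner (fun c : C => (χ : G → ℂ) c) (fun c : C => (χ : G → ℂ) c) =
        ((∑ φ, m φ ^ 2 : ℕ) : ℂ) := by
      rw [classInner_eq_sum (IsCharacter.isClassFunction hres) (IsCharacter.isClassFunction hres)]
      push_cast
      exact Finset.sum_congr rfl fun φ _ => by rw [hm, Complex.conj_natCast, sq]
    have h2 := classInner_irr_self χ.2
    rw [classInner_self_pos] at h2
    rw [classInner_self_pos] at h1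
    have h1' : ((Nat.card C : ℝ))⁻¹ * ∑ c : C, ‖(χ : G → ℂ) c‖ ^ 2 = ((∑ φ, m φ ^ 2 : ℕ) : ℝ) := by
      exact_mod_cast h1
    have h2' : ((Nat.card G : ℝ))⁻¹ * ∑ g, ‖(χ : G → ℂ) g‖ ^ 2 = 1 := by exact_mod_cast h2
    rw [inv_mul_eq_one₀ (Nat.cast_ne_zero.mpr Nat.card_pos.ne')] at h2'
    have h3 : ∑ c : C, ‖(χ : G → ℂ) c‖ ^ 2 ≤ ∑ g, ‖(χ : G → ℂ) g‖ ^ 2 := by
      refine le_trans (le_of_eq ?_) (Finset.sum_le_sum_of_subset_of_nonneg
        (Finset.filter_subset (· ∈ C) Finset.univ) fun _ _ _ => sq_nonneg _)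
      exact (Finset.sum_subtype _ (fun x => by simp) fun g => ‖(χ : G → ℂ) g‖ ^ 2).symm
    rw [← h2', ← C.card_mul_index] at h3
    push_cast at h3
    rw [inv_mul_eq_iff_eq_mul₀ (Nat.cast_ne_zero.mpr Nat.card_pos.ne')] at h1'
    rw [h1'] at h3
    exact_mod_cast le_of_mul_le_mul_left h3 (Nat.cast_pos.mpr Nat.card_pos)
  have hD : D = 1 := by
    have hD0 : 0 < D := Nat.pos_of_ne_zero fun h => hd0.ne' (by rw [hdD, h, mul_zero])
    -- every degree is at most the square root of `D`
    by_contra hne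
    have hlt : ∀ φ : Cfsg.IrrCharacter C, Cfsg.charDegree (φ : C → ℂ) < D := fun φ => by
      have := hf φ
      have h2 : 2 ≤ D := by omega
      by_contra hcon
      push Not at hcon
      nlinarith [Nat.mul_le_mul hcon hcon, Nat.mul_le_mul_right D h2]
    have h1 : ∀ φ, m φ * Cfsg.charDegree (φ : C → ℂ) ≤ m φ ^ 2 * (D - 1) := fun φ =>
      le_trans (Nat.mul_le_mul (Nat.le_self_pow two_ne_zero _) (Nat.le_sub_one_of_lt (hlt φ))) le_rfl
    have h2 := (Finset.sum_le_sum fun φ (_ : φ ∈ Finset.univ) => h1 φ)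
    rw [← hdeg', ← Finset.sum_mul, hdD] at h2
    have h3 := h2.trans (Nat.mul_le_mul_right _ hnorm)
    have hC0 : 0 < C.index := Nat.pos_of_ne_zero C.index_ne_zero_of_finite
    have := Nat.le_of_mul_le_mul_left h3 hC0
    omega
  exact (Subgroup.eq_of_le_of_card_ge hSC (by rw [hS, hCD, hD, mul_one])).symm

end CfsgLib.CharTools
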